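import Cfsg.Agent.Lib.KnownSimple.SuzP.StrongU

/-!
# The stabiliser chain
-/

set_option autoImplicit false

namespace Cfsg.Agent.Lib.KnownSimple.SuzP

open Cfsg Cfsg.Spor Cfsg.Agent.Lib.Compute Cfsg.Agent.Lib.KnownSimple.PE Cfsg.Agent.Lib.KnownSimple.Leech
open Cfsg.Agent.Lib.KnownSimple Cfsg.Agent.Lib.KnownSimple.AutRigid Cfsg.Agent.Lib.KnownSimple.Pres

/-- Generators of a stabiliser. -/
def SSU1 : Set (Equiv.Perm (Fin N)) := {((RU11 : G) : Equiv.Perm (Fin N)), ((RU12 : G) : Equiv.Perm (Fin N)), ((RU13 : G) : Equiv.Perm (Fin N)), ((RU14 : G) : Equiv.Perm (Fin N))}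
/-- A stabiliser. -/
def KKU1 : Subgroup (Equiv.Perm (Fin N)) := Subgroup.closure SSU1
theorem memU1_11 : ((RU11 : G) : Equiv.Perm (Fin N)) ∈ KKU1 := Subgroup.subset_closure (by simp [SSU1])
theorem memU1_12 : ((RU12 : G) : Equiv.Perm (Fin N)) ∈ KKU1 := Subgroup.subset_closure (by simp [SSU1])
theorem memU1_13 : ((RU13 : G) : Equiv.Perm (Fin N)) ∈ KKU1 := Subgroup.subset_closure (by simp [SSU1])
theorem memU1_14 : ((RU14 : G) : Equiv.Perm (Fin N)) ∈ KKU1 := Subgroup.subset_closure (by simp [SSU1])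
/-- Generators of a stabiliser. -/
def SSU2 : Set (Equiv.Perm (Fin N)) := {((RU15 : G) : Equiv.Perm (Fin N)), ((RU16 : G) : Equiv.Perm (Fin N)), ((RU17 : G) : Equiv.Perm (Fin N))}
/-- A stabiliser. -/
def KKU2 : Subgroup (Equiv.Perm (Fin N)) := Subgroup.closure SSU2
theorem memU2_15 : ((RU15 : G) : Equiv.Perm (Fin N)) ∈ KKU2 := Subgroup.subset_closure (by simp [SSU2])
theorem memU2_16 : ((RU16 : G) : Equiv.Perm (Fin N)) ∈ KKU2 := Subgroup.subset_closure (by simp [SSU2])
theorem memU2_17 : ((RU17 : G) : Equiv.Perm (Fin N)) ∈ KKU2 := Subgroup.subset_closure (by simp [SSU2])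
/-- Generators of a stabiliser. -/
def SSU3 : Set (Equiv.Perm (Fin N)) := {((RU18 : G) : Equiv.Perm (Fin N)), ((RU19 : G) : Equiv.Perm (Fin N))}
/-- A stabiliser. -/
def KKU3 : Subgroup (Equiv.Perm (Fin N)) := Subgroup.closure SSU3
theorem memU3_18 : ((RU18 : G) : Equiv.Perm (Fin N)) ∈ KKU3 := Subgroup.subset_closure (by simp [SSU3])
theorem memU3_19 : ((RU19 : G) : Equiv.Perm (Fin N)) ∈ KKU3 := Subgroup.subset_closure (by simp [SSU3])
/-- Generators of a stabiliser. -/
def SSU4 : Set (Equiv.Perm (Fin N)) := {((RU20 : G) : Equiv.Perm (Fin N)), ((RU21 : G) : Equiv.Perm (Fin N)), ((RU22 : G) : Equiv.Perm (Fin N))}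
/-- A stabiliser. -/
def KKU4 : Subgroup (Equiv.Perm (Fin N)) := Subgroup.closure SSU4
theorem memU4_20 : ((RU20 : G) : Equiv.Perm (Fin N)) ∈ KKU4 := Subgroup.subset_closure (by simp [SSU4])
theorem memU4_21 : ((RU21 : G) : Equiv.Perm (Fin N)) ∈ KKU4 := Subgroup.subset_closure (by simp [SSU4])
theorem memU4_22 : ((RU22 : G) : Equiv.Perm (Fin N)) ∈ KKU4 := Subgroup.subset_closure (by simp [SSU4])
/-- Generators of a stabiliser. -/
def SSU5 : Set (Equiv.Perm (Fin N)) := {((RU23 : G) : Equiv.Perm (Fin N)), ((RU24 : G) : Equiv.Perm (Fin N))}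
/-- A stabiliser. -/
def KKU5 : Subgroup (Equiv.Perm (Fin N)) := Subgroup.closure SSU5
theorem memU5_23 : ((RU23 : G) : Equiv.Perm (Fin N)) ∈ KKU5 := Subgroup.subset_closure (by simp [SSU5])
theorem memU5_24 : ((RU24 : G) : Equiv.Perm (Fin N)) ∈ KKU5 := Subgroup.subset_closure (by simp [SSU5])
/-- Generators of a stabiliser. -/
def SSU6 : Set (Equiv.Perm (Fin N)) := {((RU25 : G) : Equiv.Perm (Fin N))}
/-- A stabiliser. -/
def KKU6 : Subgroup (Equiv.Perm (Fin N)) := Subgroup.closure SSU6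
theorem memU6_25 : ((RU25 : G) : Equiv.Perm (Fin N)) ∈ KKU6 := Subgroup.subset_closure (by simp [SSU6])
/-- A level. -/
noncomputable def LU0 : Lev :=
  { b := 207, D := D_LU0, arr := A_LU0, w := 18, m := 262143, mp := 2047, bn := 11, mg := 15, bd := 15,
    fs := lgetD (fun a => a) [T 0, T 1, T 2, T 3, T 4, T 5, T 6, cRU7, ciRU7, cRU8, ciRU8, cRU9, ciRU9, cRU10, ciRU10], gs := lgetD (fun a => a) [T 0, T 1, T 2, T 3, T 4, T 5, T 6, ciRU7, cRU7, ciRU8, cRU8, ciRU9, cRU9, ciRU10, cRU10] }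
/-- The entries of a level, from small blocks. -/
noncomputable def eLU0 : ℕ → ℕ := pgetS 18 262143 EBU0
set_option maxRecDepth 100000 in
theorem fastU0 : FastLev N LU0 eLU0 := fastLev_of (by decide +kernel) (by decide +kernel)
theorem treeU0 : LU0.treeOK N = true := fastU0.tree
/-- A level. -/
noncomputable def LU1 : Lev :=
  { b := 974, D := D_LU1, arr := A_LU1, w := 16, m := 65535, mp := 2047, bn := 11, mg := 3, bd := 13,
    fs := lgetD (fun a => a) [cRU11, cRU12, cRU13, cRU14], gs := lgetD (fun a => a) [ciRU11, ciRU12, ciRU13, ciRU14] }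
/-- The entries of a level, from small blocks. -/
noncomputable def eLU1 : ℕ → ℕ := pgetS 16 65535 EBU1
set_option maxRecDepth 100000 in
theorem fastU1 : FastLev N LU1 eLU1 := fastLev_of (by decide +kernel) (by decide +kernel)
theorem treeU1 : LU1.treeOK N = true := fastU1.tree
/-- A level. -/
noncomputable def LU2 : Lev :=
  { b := 67, D := D_LU2, arr := A_LU2, w := 17, m := 131071, mp := 2047, bn := 11, mg := 3, bd := 13,
    fs := lgetD (fun a => a) [cRU15, cRU16, cRU17], gs := lgetD (fun a => a) [ciRU15, ciRU16, ciRU17] }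
/-- The entries of a level, from small blocks. -/
noncomputable def eLU2 : ℕ → ℕ := pgetS 17 131071 EBU2
set_option maxRecDepth 100000 in
theorem fastU2 : FastLev N LU2 eLU2 := fastLev_of (by decide +kernel) (by decide +kernel)
theorem treeU2 : LU2.treeOK N = true := fastU2.tree
/-- A level. -/
noncomputable def LU3 : Lev :=
  { b := 417, D := D_LU3, arr := A_LU3, w := 15, m := 32767, mp := 2047, bn := 11, mg := 1, bd := 12,
    fs := lgetD (fun a => a) [cRU18, cRU19], gs := lgetD (fun a => a) [ciRU18, ciRU19] }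
/-- The entries of a level, from small blocks. -/
noncomputable def eLU3 : ℕ → ℕ := pgetS 15 32767 EBU3
set_option maxRecDepth 100000 in
theorem fastU3 : FastLev N LU3 eLU3 := fastLev_of (by decide +kernel) (by decide +kernel)
theorem treeU3 : LU3.treeOK N = true := fastU3.tree
/-- A level. -/
noncomputable def LU4 : Lev :=
  { b := 820, D := D_LU4, arr := A_LU4, w := 15, m := 32767, mp := 2047, bn := 11, mg := 3, bd := 13,
    fs := lgetD (fun a => a) [cRU20, cRU21, cRU22], gs := lgetD (fun a => a) [ciRU20, ciRU21, ciRU22] }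
/-- The entries of a level, from small blocks. -/
noncomputable def eLU4 : ℕ → ℕ := pgetS 15 32767 EBU4
set_option maxRecDepth 100000 in
theorem fastU4 : FastLev N LU4 eLU4 := fastLev_of (by decide +kernel) (by decide +kernel)
theorem treeU4 : LU4.treeOK N = true := fastU4.tree
/-- A level. -/
noncomputable def LU5 : Lev :=
  { b := 54, D := D_LU5, arr := A_LU5, w := 14, m := 16383, mp := 2047, bn := 11, mg := 1, bd := 12,
    fs := lgetD (fun a => a) [cRU23, cRU24], gs := lgetD (fun a => a) [ciRU23, ciRU24] }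
/-- The entries of a level, from small blocks. -/
noncomputable def eLU5 : ℕ → ℕ := pgetS 14 16383 EBU5
set_option maxRecDepth 100000 in
theorem fastU5 : FastLev N LU5 eLU5 := fastLev_of (by decide +kernel) (by decide +kernel)
theorem treeU5 : LU5.treeOK N = true := fastU5.tree
/-- A level. -/
noncomputable def LU6 : Lev :=
  { b := 1177, D := D_LU6, arr := A_LU6, w := 14, m := 16383, mp := 2047, bn := 11, mg := 1, bd := 12,
    fs := lgetD (fun a => a) [cRU25], gs := lgetD (fun a => a) [ciRU25] }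
/-- The entries of a level, from small blocks. -/
noncomputable def eLU6 : ℕ → ℕ := pgetS 14 16383 EBU6
set_option maxRecDepth 100000 in
theorem fastU6 : FastLev N LU6 eLU6 := fastLev_of (by decide +kernel) (by decide +kernel)
theorem treeU6 : LU6.treeOK N = true := fastU6.tree
theorem gensU0 : GensIn E H LU0 := by
  intro k
  match k with
  | 0 => exact ⟨_, (D 0).2, code_D 0, codei_D 0⟩
  | 1 => exact ⟨_, (D 1).2, code_D 1, codei_D 1⟩
  | 2 => exact ⟨_, (D 2).2, code_D 2, codei_D 2⟩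
  | 3 => exact ⟨_, (D 3).2, code_D 3, codei_D 3⟩
  | 4 => exact ⟨_, (D 4).2, code_D 4, codei_D 4⟩
  | 5 => exact ⟨_, (D 5).2, code_D 5, codei_D 5⟩
  | 6 => exact ⟨_, (D 6).2, code_D 6, codei_D 6⟩
  | 7 => exact ⟨_, (RU7 : G).2, code_RU7, codei_RU7⟩
  | 8 =>
    refine ⟨_, (RU7⁻¹ : G).2, codei_RU7, ?_⟩
    rw [← Subgroup.coe_inv, inv_inv]
    exact code_RU7
  | 9 => exact ⟨_, (RU8 : G).2, code_RU8, codei_RU8⟩
  | 10 =>
    refine ⟨_, (RU8⁻¹ : G).2, codei_RU8, ?_⟩
    rw [← Subgroup.coe_inv, inv_inv]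
    exact code_RU8
  | 11 => exact ⟨_, (RU9 : G).2, code_RU9, codei_RU9⟩
  | 12 =>
    refine ⟨_, (RU9⁻¹ : G).2, codei_RU9, ?_⟩
    rw [← Subgroup.coe_inv, inv_inv]
    exact code_RU9
  | 13 => exact ⟨_, (RU10 : G).2, code_RU10, codei_RU10⟩
  | 14 =>
    refine ⟨_, (RU10⁻¹ : G).2, codei_RU10, ?_⟩
    rw [← Subgroup.coe_inv, inv_inv]
    exact code_RU10
  | (k + 15) =>
    refine ⟨1, H.one_mem, isCode_one E, ?_⟩
    rw [inv_one]
    exact isCode_one E
theorem gensU1 : GensIn E (KKU1) LU1 := by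
  intro k
  match k with
  | 0 => exact ⟨_, memU1_11, code_RU11, codei_RU11⟩
  | 1 => exact ⟨_, memU1_12, code_RU12, codei_RU12⟩
  | 2 => exact ⟨_, memU1_13, code_RU13, codei_RU13⟩
  | 3 => exact ⟨_, memU1_14, code_RU14, codei_RU14⟩
  | (k + 4) =>
    refine ⟨1, (KKU1).one_mem, isCode_one E, ?_⟩
    rw [inv_one]
    exact isCode_one E
theorem gensU2 : GensIn E (KKU2) LU2 := by
  intro k
  match k with
  | 0 => exact ⟨_, memU2_15, code_RU15, codei_RU15⟩
  | 1 => exact ⟨_, memU2_16, code_RU16, codei_RU16⟩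
  | 2 => exact ⟨_, memU2_17, code_RU17, codei_RU17⟩
  | (k + 3) =>
    refine ⟨1, (KKU2).one_mem, isCode_one E, ?_⟩
    rw [inv_one]
    exact isCode_one E
theorem gensU3 : GensIn E (KKU3) LU3 := by
  intro k
  match k with
  | 0 => exact ⟨_, memU3_18, code_RU18, codei_RU18⟩
  | 1 => exact ⟨_, memU3_19, code_RU19, codei_RU19⟩
  | (k + 2) =>
    refine ⟨1, (KKU3).one_mem, isCode_one E, ?_⟩
    rw [inv_one]
    exact isCode_one E
theorem gensU4 : GensIn E (KKU4) LU4 := by
  intro k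
  match k with
  | 0 => exact ⟨_, memU4_20, code_RU20, codei_RU20⟩
  | 1 => exact ⟨_, memU4_21, code_RU21, codei_RU21⟩
  | 2 => exact ⟨_, memU4_22, code_RU22, codei_RU22⟩
  | (k + 3) =>
    refine ⟨1, (KKU4).one_mem, isCode_one E, ?_⟩
    rw [inv_one]
    exact isCode_one E
theorem gensU5 : GensIn E (KKU5) LU5 := by
  intro k
  match k with
  | 0 => exact ⟨_, memU5_23, code_RU23, codei_RU23⟩
  | 1 => exact ⟨_, memU5_24, code_RU24, codei_RU24⟩
  | (k + 2) =>
    refine ⟨1, (KKU5).one_mem, isCode_one E, ?_⟩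
    rw [inv_one]
    exact isCode_one E
theorem gensU6 : GensIn E (KKU6) LU6 := by
  intro k
  match k with
  | 0 => exact ⟨_, memU6_25, code_RU25, codei_RU25⟩
  | (k + 1) =>
    refine ⟨1, (KKU6).one_mem, isCode_one E, ?_⟩
    rw [inv_one]
    exact isCode_one E
theorem wlU6 : WeakLev E (KKU6) (⊥ : Subgroup (Equiv.Perm (Fin N))) LU6 :=
  weakLev_of_tree (by decide +kernel) gensU6 treeU6 (by decide +kernel) (by decide +kernel) bot_le (fun σ hσ => by
      rw [Subgroup.mem_bot.1 hσ]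
      rfl)
theorem leU5 : KKU6 ≤ KKU5 := by
  rw [KKU6, Subgroup.closure_le]
  rintro s (rfl)
  · exact (KKU5).mul_mem (memU5_24) (memU5_23)
theorem fixU5 : ∀ σ ∈ KKU6, σ (E.pt 54) = E.pt 54 := by
  apply closure_fix
  rintro s (rfl)
  · exact fix_of_code code_RU25 (by decide +kernel) (by decide +kernel)
theorem wlU5 : WeakLev E (KKU5) (KKU6) LU5 :=
  weakLev_of_tree (by decide +kernel) gensU5 treeU5 (by decide +kernel) (by decide +kernel) leU5 fixU5
theorem leU4 : KKU5 ≤ KKU4 := by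
  rw [KKU5, Subgroup.closure_le]
  rintro s (rfl | rfl)
  · exact memU4_21
  · exact (KKU4).mul_mem ((KKU4).inv_mem memU4_20) (memU4_22)
theorem fixU4 : ∀ σ ∈ KKU5, σ (E.pt 820) = E.pt 820 := by
  apply closure_fix
  rintro s (rfl | rfl)
  · exact fix_of_code code_RU23 (by decide +kernel) (by decide +kernel)
  · exact fix_of_code code_RU24 (by decide +kernel) (by decide +kernel)
theorem wlU4 : WeakLev E (KKU4) (KKU5) LU4 :=
  weakLev_of_tree (by decide +kernel) gensU4 treeU4 (by decide +kernel) (by decide +kernel) leU4 fixU4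
theorem leU3 : KKU4 ≤ KKU3 := by
  rw [KKU4, Subgroup.closure_le]
  rintro s (rfl | rfl | rfl)
  · exact (KKU3).mul_mem (memU3_18) ((KKU3).mul_mem (memU3_19) (memU3_18))
  · exact (KKU3).mul_mem (memU3_19) ((KKU3).mul_mem (memU3_19) (memU3_19))
  · exact (KKU3).mul_mem ((KKU3).inv_mem memU3_19) ((KKU3).mul_mem ((KKU3).inv_mem memU3_19) ((KKU3).mul_mem (memU3_18) ((KKU3).mul_mem (memU3_18) (memU3_18))))
theorem fixU3 : ∀ σ ∈ KKU4, σ (E.pt 417) = E.pt 417 := by
  apply closure_fix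
  rintro s (rfl | rfl | rfl)
  · exact fix_of_code code_RU20 (by decide +kernel) (by decide +kernel)
  · exact fix_of_code code_RU21 (by decide +kernel) (by decide +kernel)
  · exact fix_of_code code_RU22 (by decide +kernel) (by decide +kernel)
theorem wlU3 : WeakLev E (KKU3) (KKU4) LU3 :=
  weakLev_of_tree (by decide +kernel) gensU3 treeU3 (by decide +kernel) (by decide +kernel) leU3 fixU3
theorem leU2 : KKU3 ≤ KKU2 := by
  rw [KKU3, Subgroup.closure_le]
  rintro s (rfl | rfl)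
  · exact (KKU2).mul_mem ((KKU2).inv_mem memU2_16) ((KKU2).mul_mem (memU2_17) ((KKU2).mul_mem (memU2_17) ((KKU2).mul_mem (memU2_16) (memU2_16))))
  · exact (KKU2).mul_mem ((KKU2).inv_mem memU2_15) ((KKU2).mul_mem ((KKU2).inv_mem memU2_16) ((KKU2).mul_mem ((KKU2).inv_mem memU2_15) ((KKU2).mul_mem (memU2_17) ((KKU2).mul_mem (memU2_17) ((KKU2).mul_mem (memU2_15) ((KKU2).mul_mem (memU2_17) (memU2_15)))))))
theorem fixU2 : ∀ σ ∈ KKU3, σ (E.pt 67) = E.pt 67 := by
  apply closure_fix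
  rintro s (rfl | rfl)
  · exact fix_of_code code_RU18 (by decide +kernel) (by decide +kernel)
  · exact fix_of_code code_RU19 (by decide +kernel) (by decide +kernel)
theorem wlU2 : WeakLev E (KKU2) (KKU3) LU2 :=
  weakLev_of_tree (by decide +kernel) gensU2 treeU2 (by decide +kernel) (by decide +kernel) leU2 fixU2
theorem leU1 : KKU2 ≤ KKU1 := by
  rw [KKU2, Subgroup.closure_le]
  rintro s (rfl | rfl | rfl)
  · exact (KKU1).mul_mem ((KKU1).inv_mem memU1_11) ((KKU1).mul_mem ((KKU1).inv_mem memU1_12) ((KKU1).mul_mem (memU1_13) (memU1_11)))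
  · exact (KKU1).mul_mem (memU1_14) ((KKU1).mul_mem (memU1_11) ((KKU1).mul_mem (memU1_14) ((KKU1).mul_mem (memU1_11) (memU1_12))))
  · exact (KKU1).mul_mem ((KKU1).inv_mem memU1_13) ((KKU1).mul_mem ((KKU1).inv_mem memU1_11) ((KKU1).mul_mem (memU1_14) ((KKU1).mul_mem (memU1_11) (memU1_14))))
theorem fixU1 : ∀ σ ∈ KKU2, σ (E.pt 974) = E.pt 974 := by
  apply closure_fix
  rintro s (rfl | rfl | rfl)
  · exact fix_of_code code_RU15 (by decide +kernel) (by decide +kernel)
  · exact fix_of_code code_RU16 (by decide +kernel) (by decide +kernel)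
  · exact fix_of_code code_RU17 (by decide +kernel) (by decide +kernel)
theorem wlU1 : WeakLev E (KKU1) (KKU2) LU1 :=
  weakLev_of_tree (by decide +kernel) gensU1 treeU1 (by decide +kernel) (by decide +kernel) leU1 fixU1
theorem leU0 : KKU1 ≤ H := by
  rw [KKU1, Subgroup.closure_le]
  rintro s (rfl | rfl | rfl | rfl)
  · exact (RU11 : G).2
  · exact (RU12 : G).2
  · exact (RU13 : G).2
  · exact (RU14 : G).2
theorem fixU0 : ∀ σ ∈ KKU1, σ (E.pt 207) = E.pt 207 := by
  apply closure_fix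
  rintro s (rfl | rfl | rfl | rfl)
  · exact fix_of_code code_RU11 (by decide +kernel) (by decide +kernel)
  · exact fix_of_code code_RU12 (by decide +kernel) (by decide +kernel)
  · exact fix_of_code code_RU13 (by decide +kernel) (by decide +kernel)
  · exact fix_of_code code_RU14 (by decide +kernel) (by decide +kernel)
theorem wlU0 : WeakLev E (H) (KKU1) LU0 :=
  weakLev_of_tree (by decide +kernel) gensU0 treeU0 (by decide +kernel) (by decide +kernel) leU0 fixU0

/-- The lower levels. -/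
noncomputable def LtU : List Lev := [LU1, LU2, LU3, LU4, LU5, LU6]
/-- The levels. -/
noncomputable def LsU : List Lev := LU0 :: LtU
theorem wchU : WeakChain E (KKU1) LtU := ⟨_, wlU1, _, wlU2, _, wlU3, _, wlU4, _, wlU5, _, wlU6, rfl⟩
set_option maxRecDepth 100000 in
theorem sizesU : (LsU.map (Lev.size N)).prod = 448345497600 := by decide +kernel
theorem main₀U : Function.Injective φ ∧ LevelSem E H (KKU1) LU0 ∧ ChainSem E (KKU1) LtU := by
  haveI := finite_P.1
  refine chain_of_bound' φ wlU0 wchU ?_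
  have h := sizesU
  rw [LsU] at h
  rw [h]
  exact finite_P.2
theorem chainHU : ChainSem E H LsU := ⟨_, main₀U.2.1, main₀U.2.2⟩

end Cfsg.Agent.Lib.KnownSimple.SuzP
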