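import Mathlib

/-!
# Lists of images
-/

set_option autoImplicit false

namespace Cfsg.Agent.Lib.KnownSimple.SuzP

set_option maxRecDepth 1000000 in
/-- Generated data. -/
def ilC_1 : List ℕ := [207, 974]
set_option maxRecDepth 1000000 in
/-- Generated data. -/
def ilC_2 : List ℕ := [25, 64, 67, 84, 125, 157, 207, 212, 250, 313, 349, 350, 370, 397, 412, 417, 467, 645, 654, 706, 820, 901, 946, 954, 974, 1011, 1058, 1065, 1147, 1224, 1298, 1347, 1406, 1421, 1430, 1511, 1542, 1543, 1548, 1549, 1564, 1662]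

end Cfsg.Agent.Lib.KnownSimple.SuzP
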