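import Cfsg.Agent.Lib.KnownSimple.SuzP.Hom

/-!
# Strong generators
-/

set_option autoImplicit false

namespace Cfsg.Agent.Lib.KnownSimple.SuzP

open Cfsg Cfsg.Spor Cfsg.Agent.Lib.Compute Cfsg.Agent.Lib.KnownSimple.PE Cfsg.Agent.Lib.KnownSimple.Leech
open Cfsg.Agent.Lib.KnownSimple Cfsg.Agent.Lib.KnownSimple.AutRigid Cfsg.Agent.Lib.KnownSimple.Pres

/-- A strong generator. -/
noncomputable def R7 : G := (D 3) * ((D 4) * ((D 6) * ((D 5) * ((D 1) * ((D 2))))))
/-- The code of a strong generator. -/
noncomputable def cR7 : ℕ → ℕ := pgetS 11 2047 TR7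
/-- The inverse code of a strong generator. -/
noncomputable def ciR7 : ℕ → ℕ := pgetS 11 2047 TI7
set_option maxRecDepth 100000 in
theorem code_R7 : E.IsCode ((R7 : G) : Equiv.Perm (Fin N)) (cR7) :=
  congr_of_chk (coe_code_mul (code_D 3) (coe_code_mul (code_D 4) (coe_code_mul (code_D 6) (coe_code_mul (code_D 5) (coe_code_mul (code_D 1) ((code_D 2))))))) (by decide +kernel)
set_option maxRecDepth 100000 in
theorem codei_R7 : E.IsCode ((R7⁻¹ : G) : Equiv.Perm (Fin N)) (ciR7) :=
  inv_of_chk code_R7 (by decide +kernel)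
/-- A strong generator. -/
noncomputable def R8 : G := (D 3) * ((D 0) * ((D 2) * ((D 1) * ((D 6) * ((D 4))))))
/-- The code of a strong generator. -/
noncomputable def cR8 : ℕ → ℕ := pgetS 11 2047 TR8
/-- The inverse code of a strong generator. -/
noncomputable def ciR8 : ℕ → ℕ := pgetS 11 2047 TI8
set_option maxRecDepth 100000 in
theorem code_R8 : E.IsCode ((R8 : G) : Equiv.Perm (Fin N)) (cR8) :=
  congr_of_chk (coe_code_mul (code_D 3) (coe_code_mul (code_D 0) (coe_code_mul (code_D 2) (coe_code_mul (code_D 1) (coe_code_mul (code_D 6) ((code_D 4))))))) (by decide +kernel)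
set_option maxRecDepth 100000 in
theorem codei_R8 : E.IsCode ((R8⁻¹ : G) : Equiv.Perm (Fin N)) (ciR8) :=
  inv_of_chk code_R8 (by decide +kernel)
/-- A strong generator. -/
noncomputable def R9 : G := (D 2) * ((D 1) * ((D 3) * ((D 6) * ((D 2) * ((D 3))))))
/-- The code of a strong generator. -/
noncomputable def cR9 : ℕ → ℕ := pgetS 11 2047 TR9
/-- The inverse code of a strong generator. -/
noncomputable def ciR9 : ℕ → ℕ := pgetS 11 2047 TI9
set_option maxRecDepth 100000 in
theorem code_R9 : E.IsCode ((R9 : G) : Equiv.Perm (Fin N)) (cR9) :=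
  congr_of_chk (coe_code_mul (code_D 2) (coe_code_mul (code_D 1) (coe_code_mul (code_D 3) (coe_code_mul (code_D 6) (coe_code_mul (code_D 2) ((code_D 3))))))) (by decide +kernel)
set_option maxRecDepth 100000 in
theorem codei_R9 : E.IsCode ((R9⁻¹ : G) : Equiv.Perm (Fin N)) (ciR9) :=
  inv_of_chk code_R9 (by decide +kernel)
/-- A strong generator. -/
noncomputable def R10 : G := (D 5) * ((D 1) * ((D 4) * ((D 2) * ((D 3) * ((D 4))))))
/-- The code of a strong generator. -/
noncomputable def cR10 : ℕ → ℕ := pgetS 11 2047 TR10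
/-- The inverse code of a strong generator. -/
noncomputable def ciR10 : ℕ → ℕ := pgetS 11 2047 TI10
set_option maxRecDepth 100000 in
theorem code_R10 : E.IsCode ((R10 : G) : Equiv.Perm (Fin N)) (cR10) :=
  congr_of_chk (coe_code_mul (code_D 5) (coe_code_mul (code_D 1) (coe_code_mul (code_D 4) (coe_code_mul (code_D 2) (coe_code_mul (code_D 3) ((code_D 4))))))) (by decide +kernel)
set_option maxRecDepth 100000 in
theorem codei_R10 : E.IsCode ((R10⁻¹ : G) : Equiv.Perm (Fin N)) (ciR10) :=
  inv_of_chk code_R10 (by decide +kernel)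
/-- A strong generator. -/
noncomputable def R11 : G := (D 2)⁻¹ * ((D 5)⁻¹ * ((D 6) * ((D 5) * ((D 0)))))
/-- The code of a strong generator. -/
noncomputable def cR11 : ℕ → ℕ := pgetS 11 2047 TR11
/-- The inverse code of a strong generator. -/
noncomputable def ciR11 : ℕ → ℕ := pgetS 11 2047 TI11
set_option maxRecDepth 100000 in
theorem code_R11 : E.IsCode ((R11 : G) : Equiv.Perm (Fin N)) (cR11) :=
  congr_of_chk (coe_code_mul (codei_D 2) (coe_code_mul (codei_D 5) (coe_code_mul (code_D 6) (coe_code_mul (code_D 5) ((code_D 0)))))) (by decide +kernel)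
set_option maxRecDepth 100000 in
theorem codei_R11 : E.IsCode ((R11⁻¹ : G) : Equiv.Perm (Fin N)) (ciR11) :=
  inv_of_chk code_R11 (by decide +kernel)
/-- A strong generator. -/
noncomputable def R12 : G := (D 0)⁻¹ * ((D 3)⁻¹ * ((D 4)⁻¹ * ((D 5)⁻¹ * ((D 3) * ((D 1) * ((D 5) * ((D 0))))))))
/-- The code of a strong generator. -/
noncomputable def cR12 : ℕ → ℕ := pgetS 11 2047 TR12
/-- The inverse code of a strong generator. -/
noncomputable def ciR12 : ℕ → ℕ := pgetS 11 2047 TI12
set_option maxRecDepth 100000 in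
theorem code_R12 : E.IsCode ((R12 : G) : Equiv.Perm (Fin N)) (cR12) :=
  congr_of_chk (coe_code_mul (codei_D 0) (coe_code_mul (codei_D 3) (coe_code_mul (codei_D 4) (coe_code_mul (codei_D 5) (coe_code_mul (code_D 3) (coe_code_mul (code_D 1) (coe_code_mul (code_D 5) ((code_D 0))))))))) (by decide +kernel)
set_option maxRecDepth 100000 in
theorem codei_R12 : E.IsCode ((R12⁻¹ : G) : Equiv.Perm (Fin N)) (ciR12) :=
  inv_of_chk code_R12 (by decide +kernel)
/-- A strong generator. -/
noncomputable def R13 : G := (D 3)⁻¹ * ((R8)⁻¹ * ((D 2) * ((D 1) * ((D 0)))))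
/-- The code of a strong generator. -/
noncomputable def cR13 : ℕ → ℕ := pgetS 11 2047 TR13
/-- The inverse code of a strong generator. -/
noncomputable def ciR13 : ℕ → ℕ := pgetS 11 2047 TI13
set_option maxRecDepth 100000 in
theorem code_R13 : E.IsCode ((R13 : G) : Equiv.Perm (Fin N)) (cR13) :=
  congr_of_chk (coe_code_mul (codei_D 3) (coe_code_mul codei_R8 (coe_code_mul (code_D 2) (coe_code_mul (code_D 1) ((code_D 0)))))) (by decide +kernel)
set_option maxRecDepth 100000 in
theorem codei_R13 : E.IsCode ((R13⁻¹ : G) : Equiv.Perm (Fin N)) (ciR13) :=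
  inv_of_chk code_R13 (by decide +kernel)
/-- A strong generator. -/
noncomputable def R14 : G := (R13) * ((R13))
/-- The code of a strong generator. -/
noncomputable def cR14 : ℕ → ℕ := pgetS 11 2047 TR14
/-- The inverse code of a strong generator. -/
noncomputable def ciR14 : ℕ → ℕ := pgetS 11 2047 TI14
set_option maxRecDepth 100000 in
theorem code_R14 : E.IsCode ((R14 : G) : Equiv.Perm (Fin N)) (cR14) :=
  congr_of_chk (coe_code_mul code_R13 (code_R13)) (by decide +kernel)
set_option maxRecDepth 100000 in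
theorem codei_R14 : E.IsCode ((R14⁻¹ : G) : Equiv.Perm (Fin N)) (ciR14) :=
  inv_of_chk code_R14 (by decide +kernel)
/-- A strong generator. -/
noncomputable def R15 : G := (R12)⁻¹ * ((R11)⁻¹ * ((R12) * ((R11) * ((R12)))))
/-- The code of a strong generator. -/
noncomputable def cR15 : ℕ → ℕ := pgetS 11 2047 TR15
/-- The inverse code of a strong generator. -/
noncomputable def ciR15 : ℕ → ℕ := pgetS 11 2047 TI15
set_option maxRecDepth 100000 in
theorem code_R15 : E.IsCode ((R15 : G) : Equiv.Perm (Fin N)) (cR15) :=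
  congr_of_chk (coe_code_mul codei_R12 (coe_code_mul codei_R11 (coe_code_mul code_R12 (coe_code_mul code_R11 (code_R12))))) (by decide +kernel)
set_option maxRecDepth 100000 in
theorem codei_R15 : E.IsCode ((R15⁻¹ : G) : Equiv.Perm (Fin N)) (ciR15) :=
  inv_of_chk code_R15 (by decide +kernel)
/-- A strong generator. -/
noncomputable def R16 : G := (R14)⁻¹ * ((R15)⁻¹ * ((R14) * ((R14) * ((R14) * ((R15) * ((R14)))))))
/-- The code of a strong generator. -/
noncomputable def cR16 : ℕ → ℕ := pgetS 11 2047 TR16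
/-- The inverse code of a strong generator. -/
noncomputable def ciR16 : ℕ → ℕ := pgetS 11 2047 TI16
set_option maxRecDepth 100000 in
theorem code_R16 : E.IsCode ((R16 : G) : Equiv.Perm (Fin N)) (cR16) :=
  congr_of_chk (coe_code_mul codei_R14 (coe_code_mul codei_R15 (coe_code_mul code_R14 (coe_code_mul code_R14 (coe_code_mul code_R14 (coe_code_mul code_R15 (code_R14))))))) (by decide +kernel)
set_option maxRecDepth 100000 in
theorem codei_R16 : E.IsCode ((R16⁻¹ : G) : Equiv.Perm (Fin N)) (ciR16) :=
  inv_of_chk code_R16 (by decide +kernel)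
/-- A strong generator. -/
noncomputable def R17 : G := (R15)⁻¹ * ((R14)⁻¹ * ((R15)⁻¹ * ((R14) * ((R15) * ((R14) * ((R14) * ((R15))))))))
/-- The code of a strong generator. -/
noncomputable def cR17 : ℕ → ℕ := pgetS 11 2047 TR17
/-- The inverse code of a strong generator. -/
noncomputable def ciR17 : ℕ → ℕ := pgetS 11 2047 TI17
set_option maxRecDepth 100000 in
theorem code_R17 : E.IsCode ((R17 : G) : Equiv.Perm (Fin N)) (cR17) :=
  congr_of_chk (coe_code_mul codei_R15 (coe_code_mul codei_R14 (coe_code_mul codei_R15 (coe_code_mul code_R14 (coe_code_mul code_R15 (coe_code_mul code_R14 (coe_code_mul code_R14 (code_R15)))))))) (by decide +kernel)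
set_option maxRecDepth 100000 in
theorem codei_R17 : E.IsCode ((R17⁻¹ : G) : Equiv.Perm (Fin N)) (ciR17) :=
  inv_of_chk code_R17 (by decide +kernel)
/-- A strong generator. -/
noncomputable def R18 : G := (R15)⁻¹ * ((R14)⁻¹ * ((R14)⁻¹ * ((R15)⁻¹ * ((R14) * ((R15) * ((R14) * ((R15))))))))
/-- The code of a strong generator. -/
noncomputable def cR18 : ℕ → ℕ := pgetS 11 2047 TR18
/-- The inverse code of a strong generator. -/
noncomputable def ciR18 : ℕ → ℕ := pgetS 11 2047 TI18
set_option maxRecDepth 100000 in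
theorem code_R18 : E.IsCode ((R18 : G) : Equiv.Perm (Fin N)) (cR18) :=
  congr_of_chk (coe_code_mul codei_R15 (coe_code_mul codei_R14 (coe_code_mul codei_R14 (coe_code_mul codei_R15 (coe_code_mul code_R14 (coe_code_mul code_R15 (coe_code_mul code_R14 (code_R15)))))))) (by decide +kernel)
set_option maxRecDepth 100000 in
theorem codei_R18 : E.IsCode ((R18⁻¹ : G) : Equiv.Perm (Fin N)) (ciR18) :=
  inv_of_chk code_R18 (by decide +kernel)
/-- A strong generator. -/
noncomputable def R19 : G := (R17)⁻¹ * ((R16) * ((R17)))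
/-- The code of a strong generator. -/
noncomputable def cR19 : ℕ → ℕ := pgetS 11 2047 TR19
/-- The inverse code of a strong generator. -/
noncomputable def ciR19 : ℕ → ℕ := pgetS 11 2047 TI19
set_option maxRecDepth 100000 in
theorem code_R19 : E.IsCode ((R19 : G) : Equiv.Perm (Fin N)) (cR19) :=
  congr_of_chk (coe_code_mul codei_R17 (coe_code_mul code_R16 (code_R17))) (by decide +kernel)
set_option maxRecDepth 100000 in
theorem codei_R19 : E.IsCode ((R19⁻¹ : G) : Equiv.Perm (Fin N)) (ciR19) :=
  inv_of_chk code_R19 (by decide +kernel)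
/-- A strong generator. -/
noncomputable def R20 : G := (R17)⁻¹ * ((R17)⁻¹ * ((R18) * ((R18))))
/-- The code of a strong generator. -/
noncomputable def cR20 : ℕ → ℕ := pgetS 11 2047 TR20
/-- The inverse code of a strong generator. -/
noncomputable def ciR20 : ℕ → ℕ := pgetS 11 2047 TI20
set_option maxRecDepth 100000 in
theorem code_R20 : E.IsCode ((R20 : G) : Equiv.Perm (Fin N)) (cR20) :=
  congr_of_chk (coe_code_mul codei_R17 (coe_code_mul codei_R17 (coe_code_mul code_R18 (code_R18)))) (by decide +kernel)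
set_option maxRecDepth 100000 in
theorem codei_R20 : E.IsCode ((R20⁻¹ : G) : Equiv.Perm (Fin N)) (ciR20) :=
  inv_of_chk code_R20 (by decide +kernel)
/-- A strong generator. -/
noncomputable def R21 : G := (R19)⁻¹ * ((R20)⁻¹ * ((R19) * ((R20) * ((R19)))))
/-- The code of a strong generator. -/
noncomputable def cR21 : ℕ → ℕ := pgetS 11 2047 TR21
/-- The inverse code of a strong generator. -/
noncomputable def ciR21 : ℕ → ℕ := pgetS 11 2047 TI21
set_option maxRecDepth 100000 in
theorem code_R21 : E.IsCode ((R21 : G) : Equiv.Perm (Fin N)) (cR21) :=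
  congr_of_chk (coe_code_mul codei_R19 (coe_code_mul codei_R20 (coe_code_mul code_R19 (coe_code_mul code_R20 (code_R19))))) (by decide +kernel)
set_option maxRecDepth 100000 in
theorem codei_R21 : E.IsCode ((R21⁻¹ : G) : Equiv.Perm (Fin N)) (ciR21) :=
  inv_of_chk code_R21 (by decide +kernel)
/-- A strong generator. -/
noncomputable def R22 : G := (R20)⁻¹ * ((R19)⁻¹ * ((R20) * ((R19) * ((R20) * ((R20))))))
/-- The code of a strong generator. -/
noncomputable def cR22 : ℕ → ℕ := pgetS 11 2047 TR22
/-- The inverse code of a strong generator. -/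
noncomputable def ciR22 : ℕ → ℕ := pgetS 11 2047 TI22
set_option maxRecDepth 100000 in
theorem code_R22 : E.IsCode ((R22 : G) : Equiv.Perm (Fin N)) (cR22) :=
  congr_of_chk (coe_code_mul codei_R20 (coe_code_mul codei_R19 (coe_code_mul code_R20 (coe_code_mul code_R19 (coe_code_mul code_R20 (code_R20)))))) (by decide +kernel)
set_option maxRecDepth 100000 in
theorem codei_R22 : E.IsCode ((R22⁻¹ : G) : Equiv.Perm (Fin N)) (ciR22) :=
  inv_of_chk code_R22 (by decide +kernel)

end Cfsg.Agent.Lib.KnownSimple.SuzP
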