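import Cfsg.Agent.Lib.KnownSimple.SuzP.Chain
import Cfsg.Agent.Lib.KnownSimple.SuzP.DataTU
import Cfsg.Agent.Lib.KnownSimple.SuzP.DataLU

/-!
# Strong generators
-/

set_option autoImplicit false

namespace Cfsg.Agent.Lib.KnownSimple.SuzP

open Cfsg Cfsg.Spor Cfsg.Agent.Lib.Compute Cfsg.Agent.Lib.KnownSimple.PE Cfsg.Agent.Lib.KnownSimple.Leech
open Cfsg.Agent.Lib.KnownSimple Cfsg.Agent.Lib.KnownSimple.AutRigid Cfsg.Agent.Lib.KnownSimple.Pres

/-- A strong generator. -/
noncomputable def RU7 : G := (D 3) * ((D 4) * ((D 6) * ((D 5) * ((D 1) * ((D 2))))))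
/-- The code of a strong generator. -/
noncomputable def cRU7 : ℕ → ℕ := pgetS 11 2047 TRU7
/-- The inverse code of a strong generator. -/
noncomputable def ciRU7 : ℕ → ℕ := pgetS 11 2047 TIU7
set_option maxRecDepth 100000 in
theorem code_RU7 : E.IsCode ((RU7 : G) : Equiv.Perm (Fin N)) (cRU7) :=
  congr_of_chk (coe_code_mul (code_D 3) (coe_code_mul (code_D 4) (coe_code_mul (code_D 6) (coe_code_mul (code_D 5) (coe_code_mul (code_D 1) ((code_D 2))))))) (by decide +kernel)
set_option maxRecDepth 100000 in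
theorem codei_RU7 : E.IsCode ((RU7⁻¹ : G) : Equiv.Perm (Fin N)) (ciRU7) :=
  inv_of_chk code_RU7 (by decide +kernel)
/-- A strong generator. -/
noncomputable def RU8 : G := (D 3) * ((D 0) * ((D 2) * ((D 1) * ((D 6) * ((D 4))))))
/-- The code of a strong generator. -/
noncomputable def cRU8 : ℕ → ℕ := pgetS 11 2047 TRU8
/-- The inverse code of a strong generator. -/
noncomputable def ciRU8 : ℕ → ℕ := pgetS 11 2047 TIU8
set_option maxRecDepth 100000 in
theorem code_RU8 : E.IsCode ((RU8 : G) : Equiv.Perm (Fin N)) (cRU8) :=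
  congr_of_chk (coe_code_mul (code_D 3) (coe_code_mul (code_D 0) (coe_code_mul (code_D 2) (coe_code_mul (code_D 1) (coe_code_mul (code_D 6) ((code_D 4))))))) (by decide +kernel)
set_option maxRecDepth 100000 in
theorem codei_RU8 : E.IsCode ((RU8⁻¹ : G) : Equiv.Perm (Fin N)) (ciRU8) :=
  inv_of_chk code_RU8 (by decide +kernel)
/-- A strong generator. -/
noncomputable def RU9 : G := (D 2) * ((D 1) * ((D 3) * ((D 6) * ((D 2) * ((D 3))))))
/-- The code of a strong generator. -/
noncomputable def cRU9 : ℕ → ℕ := pgetS 11 2047 TRU9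
/-- The inverse code of a strong generator. -/
noncomputable def ciRU9 : ℕ → ℕ := pgetS 11 2047 TIU9
set_option maxRecDepth 100000 in
theorem code_RU9 : E.IsCode ((RU9 : G) : Equiv.Perm (Fin N)) (cRU9) :=
  congr_of_chk (coe_code_mul (code_D 2) (coe_code_mul (code_D 1) (coe_code_mul (code_D 3) (coe_code_mul (code_D 6) (coe_code_mul (code_D 2) ((code_D 3))))))) (by decide +kernel)
set_option maxRecDepth 100000 in
theorem codei_RU9 : E.IsCode ((RU9⁻¹ : G) : Equiv.Perm (Fin N)) (ciRU9) :=
  inv_of_chk code_RU9 (by decide +kernel)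
/-- A strong generator. -/
noncomputable def RU10 : G := (D 5) * ((D 1) * ((D 4) * ((D 2) * ((D 3) * ((D 4))))))
/-- The code of a strong generator. -/
noncomputable def cRU10 : ℕ → ℕ := pgetS 11 2047 TRU10
/-- The inverse code of a strong generator. -/
noncomputable def ciRU10 : ℕ → ℕ := pgetS 11 2047 TIU10
set_option maxRecDepth 100000 in
theorem code_RU10 : E.IsCode ((RU10 : G) : Equiv.Perm (Fin N)) (cRU10) :=
  congr_of_chk (coe_code_mul (code_D 5) (coe_code_mul (code_D 1) (coe_code_mul (code_D 4) (coe_code_mul (code_D 2) (coe_code_mul (code_D 3) ((code_D 4))))))) (by decide +kernel)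
set_option maxRecDepth 100000 in
theorem codei_RU10 : E.IsCode ((RU10⁻¹ : G) : Equiv.Perm (Fin N)) (ciRU10) :=
  inv_of_chk code_RU10 (by decide +kernel)
/-- A strong generator. -/
noncomputable def RU11 : G := (D 5)⁻¹ * ((D 3) * ((D 5) * ((D 0))))
/-- The code of a strong generator. -/
noncomputable def cRU11 : ℕ → ℕ := pgetS 11 2047 TRU11
/-- The inverse code of a strong generator. -/
noncomputable def ciRU11 : ℕ → ℕ := pgetS 11 2047 TIU11
set_option maxRecDepth 100000 in
theorem code_RU11 : E.IsCode ((RU11 : G) : Equiv.Perm (Fin N)) (cRU11) :=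
  congr_of_chk (coe_code_mul (codei_D 5) (coe_code_mul (code_D 3) (coe_code_mul (code_D 5) ((code_D 0))))) (by decide +kernel)
set_option maxRecDepth 100000 in
theorem codei_RU11 : E.IsCode ((RU11⁻¹ : G) : Equiv.Perm (Fin N)) (ciRU11) :=
  inv_of_chk code_RU11 (by decide +kernel)
/-- A strong generator. -/
noncomputable def RU12 : G := (D 2)⁻¹ * ((RU8)⁻¹ * ((D 6)))
/-- The code of a strong generator. -/
noncomputable def cRU12 : ℕ → ℕ := pgetS 11 2047 TRU12
/-- The inverse code of a strong generator. -/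
noncomputable def ciRU12 : ℕ → ℕ := pgetS 11 2047 TIU12
set_option maxRecDepth 100000 in
theorem code_RU12 : E.IsCode ((RU12 : G) : Equiv.Perm (Fin N)) (cRU12) :=
  congr_of_chk (coe_code_mul (codei_D 2) (coe_code_mul codei_RU8 ((code_D 6)))) (by decide +kernel)
set_option maxRecDepth 100000 in
theorem codei_RU12 : E.IsCode ((RU12⁻¹ : G) : Equiv.Perm (Fin N)) (ciRU12) :=
  inv_of_chk code_RU12 (by decide +kernel)
/-- A strong generator. -/
noncomputable def RU13 : G := (D 0)⁻¹ * ((RU9)⁻¹ * ((D 3) * ((D 4) * ((D 2)))))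
/-- The code of a strong generator. -/
noncomputable def cRU13 : ℕ → ℕ := pgetS 11 2047 TRU13
/-- The inverse code of a strong generator. -/
noncomputable def ciRU13 : ℕ → ℕ := pgetS 11 2047 TIU13
set_option maxRecDepth 100000 in
theorem code_RU13 : E.IsCode ((RU13 : G) : Equiv.Perm (Fin N)) (cRU13) :=
  congr_of_chk (coe_code_mul (codei_D 0) (coe_code_mul codei_RU9 (coe_code_mul (code_D 3) (coe_code_mul (code_D 4) ((code_D 2)))))) (by decide +kernel)
set_option maxRecDepth 100000 in
theorem codei_RU13 : E.IsCode ((RU13⁻¹ : G) : Equiv.Perm (Fin N)) (ciRU13) :=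
  inv_of_chk code_RU13 (by decide +kernel)
/-- A strong generator. -/
noncomputable def RU14 : G := (RU7)⁻¹ * ((D 2)⁻¹ * ((D 1)⁻¹ * ((D 2) * ((D 3) * ((D 2) * ((D 0)))))))
/-- The code of a strong generator. -/
noncomputable def cRU14 : ℕ → ℕ := pgetS 11 2047 TRU14
/-- The inverse code of a strong generator. -/
noncomputable def ciRU14 : ℕ → ℕ := pgetS 11 2047 TIU14
set_option maxRecDepth 100000 in
theorem code_RU14 : E.IsCode ((RU14 : G) : Equiv.Perm (Fin N)) (cRU14) :=
  congr_of_chk (coe_code_mul codei_RU7 (coe_code_mul (codei_D 2) (coe_code_mul (codei_D 1) (coe_code_mul (code_D 2) (coe_code_mul (code_D 3) (coe_code_mul (code_D 2) ((code_D 0)))))))) (by decide +kernel)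
set_option maxRecDepth 100000 in
theorem codei_RU14 : E.IsCode ((RU14⁻¹ : G) : Equiv.Perm (Fin N)) (ciRU14) :=
  inv_of_chk code_RU14 (by decide +kernel)
/-- A strong generator. -/
noncomputable def RU15 : G := (RU11)⁻¹ * ((RU12)⁻¹ * ((RU13) * ((RU11))))
/-- The code of a strong generator. -/
noncomputable def cRU15 : ℕ → ℕ := pgetS 11 2047 TRU15
/-- The inverse code of a strong generator. -/
noncomputable def ciRU15 : ℕ → ℕ := pgetS 11 2047 TIU15
set_option maxRecDepth 100000 in
theorem code_RU15 : E.IsCode ((RU15 : G) : Equiv.Perm (Fin N)) (cRU15) :=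
  congr_of_chk (coe_code_mul codei_RU11 (coe_code_mul codei_RU12 (coe_code_mul code_RU13 (code_RU11)))) (by decide +kernel)
set_option maxRecDepth 100000 in
theorem codei_RU15 : E.IsCode ((RU15⁻¹ : G) : Equiv.Perm (Fin N)) (ciRU15) :=
  inv_of_chk code_RU15 (by decide +kernel)
/-- A strong generator. -/
noncomputable def RU16 : G := (RU14) * ((RU11) * ((RU14) * ((RU11) * ((RU12)))))
/-- The code of a strong generator. -/
noncomputable def cRU16 : ℕ → ℕ := pgetS 11 2047 TRU16
/-- The inverse code of a strong generator. -/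
noncomputable def ciRU16 : ℕ → ℕ := pgetS 11 2047 TIU16
set_option maxRecDepth 100000 in
theorem code_RU16 : E.IsCode ((RU16 : G) : Equiv.Perm (Fin N)) (cRU16) :=
  congr_of_chk (coe_code_mul code_RU14 (coe_code_mul code_RU11 (coe_code_mul code_RU14 (coe_code_mul code_RU11 (code_RU12))))) (by decide +kernel)
set_option maxRecDepth 100000 in
theorem codei_RU16 : E.IsCode ((RU16⁻¹ : G) : Equiv.Perm (Fin N)) (ciRU16) :=
  inv_of_chk code_RU16 (by decide +kernel)
/-- A strong generator. -/
noncomputable def RU17 : G := (RU13)⁻¹ * ((RU11)⁻¹ * ((RU14) * ((RU11) * ((RU14)))))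
/-- The code of a strong generator. -/
noncomputable def cRU17 : ℕ → ℕ := pgetS 11 2047 TRU17
/-- The inverse code of a strong generator. -/
noncomputable def ciRU17 : ℕ → ℕ := pgetS 11 2047 TIU17
set_option maxRecDepth 100000 in
theorem code_RU17 : E.IsCode ((RU17 : G) : Equiv.Perm (Fin N)) (cRU17) :=
  congr_of_chk (coe_code_mul codei_RU13 (coe_code_mul codei_RU11 (coe_code_mul code_RU14 (coe_code_mul code_RU11 (code_RU14))))) (by decide +kernel)
set_option maxRecDepth 100000 in
theorem codei_RU17 : E.IsCode ((RU17⁻¹ : G) : Equiv.Perm (Fin N)) (ciRU17) :=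
  inv_of_chk code_RU17 (by decide +kernel)
/-- A strong generator. -/
noncomputable def RU18 : G := (RU16)⁻¹ * ((RU17) * ((RU17) * ((RU16) * ((RU16)))))
/-- The code of a strong generator. -/
noncomputable def cRU18 : ℕ → ℕ := pgetS 11 2047 TRU18
/-- The inverse code of a strong generator. -/
noncomputable def ciRU18 : ℕ → ℕ := pgetS 11 2047 TIU18
set_option maxRecDepth 100000 in
theorem code_RU18 : E.IsCode ((RU18 : G) : Equiv.Perm (Fin N)) (cRU18) :=
  congr_of_chk (coe_code_mul codei_RU16 (coe_code_mul code_RU17 (coe_code_mul code_RU17 (coe_code_mul code_RU16 (code_RU16))))) (by decide +kernel)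
set_option maxRecDepth 100000 in
theorem codei_RU18 : E.IsCode ((RU18⁻¹ : G) : Equiv.Perm (Fin N)) (ciRU18) :=
  inv_of_chk code_RU18 (by decide +kernel)
/-- A strong generator. -/
noncomputable def RU19 : G := (RU15)⁻¹ * ((RU16)⁻¹ * ((RU15)⁻¹ * ((RU17) * ((RU17) * ((RU15) * ((RU17) * ((RU15))))))))
/-- The code of a strong generator. -/
noncomputable def cRU19 : ℕ → ℕ := pgetS 11 2047 TRU19
/-- The inverse code of a strong generator. -/
noncomputable def ciRU19 : ℕ → ℕ := pgetS 11 2047 TIU19
set_option maxRecDepth 100000 in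
theorem code_RU19 : E.IsCode ((RU19 : G) : Equiv.Perm (Fin N)) (cRU19) :=
  congr_of_chk (coe_code_mul codei_RU15 (coe_code_mul codei_RU16 (coe_code_mul codei_RU15 (coe_code_mul code_RU17 (coe_code_mul code_RU17 (coe_code_mul code_RU15 (coe_code_mul code_RU17 (code_RU15)))))))) (by decide +kernel)
set_option maxRecDepth 100000 in
theorem codei_RU19 : E.IsCode ((RU19⁻¹ : G) : Equiv.Perm (Fin N)) (ciRU19) :=
  inv_of_chk code_RU19 (by decide +kernel)
/-- A strong generator. -/
noncomputable def RU20 : G := (RU18) * ((RU19) * ((RU18)))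
/-- The code of a strong generator. -/
noncomputable def cRU20 : ℕ → ℕ := pgetS 11 2047 TRU20
/-- The inverse code of a strong generator. -/
noncomputable def ciRU20 : ℕ → ℕ := pgetS 11 2047 TIU20
set_option maxRecDepth 100000 in
theorem code_RU20 : E.IsCode ((RU20 : G) : Equiv.Perm (Fin N)) (cRU20) :=
  congr_of_chk (coe_code_mul code_RU18 (coe_code_mul code_RU19 (code_RU18))) (by decide +kernel)
set_option maxRecDepth 100000 in
theorem codei_RU20 : E.IsCode ((RU20⁻¹ : G) : Equiv.Perm (Fin N)) (ciRU20) :=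
  inv_of_chk code_RU20 (by decide +kernel)
/-- A strong generator. -/
noncomputable def RU21 : G := (RU19) * ((RU19) * ((RU19)))
/-- The code of a strong generator. -/
noncomputable def cRU21 : ℕ → ℕ := pgetS 11 2047 TRU21
/-- The inverse code of a strong generator. -/
noncomputable def ciRU21 : ℕ → ℕ := pgetS 11 2047 TIU21
set_option maxRecDepth 100000 in
theorem code_RU21 : E.IsCode ((RU21 : G) : Equiv.Perm (Fin N)) (cRU21) :=
  congr_of_chk (coe_code_mul code_RU19 (coe_code_mul code_RU19 (code_RU19))) (by decide +kernel)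
set_option maxRecDepth 100000 in
theorem codei_RU21 : E.IsCode ((RU21⁻¹ : G) : Equiv.Perm (Fin N)) (ciRU21) :=
  inv_of_chk code_RU21 (by decide +kernel)
/-- A strong generator. -/
noncomputable def RU22 : G := (RU19)⁻¹ * ((RU19)⁻¹ * ((RU18) * ((RU18) * ((RU18)))))
/-- The code of a strong generator. -/
noncomputable def cRU22 : ℕ → ℕ := pgetS 11 2047 TRU22
/-- The inverse code of a strong generator. -/
noncomputable def ciRU22 : ℕ → ℕ := pgetS 11 2047 TIU22
set_option maxRecDepth 100000 in
theorem code_RU22 : E.IsCode ((RU22 : G) : Equiv.Perm (Fin N)) (cRU22) :=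
  congr_of_chk (coe_code_mul codei_RU19 (coe_code_mul codei_RU19 (coe_code_mul code_RU18 (coe_code_mul code_RU18 (code_RU18))))) (by decide +kernel)
set_option maxRecDepth 100000 in
theorem codei_RU22 : E.IsCode ((RU22⁻¹ : G) : Equiv.Perm (Fin N)) (ciRU22) :=
  inv_of_chk code_RU22 (by decide +kernel)
/-- A strong generator. -/
noncomputable def RU23 : G := (RU21)
/-- The code of a strong generator. -/
noncomputable def cRU23 : ℕ → ℕ := pgetS 11 2047 TRU23
/-- The inverse code of a strong generator. -/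
noncomputable def ciRU23 : ℕ → ℕ := pgetS 11 2047 TIU23
set_option maxRecDepth 100000 in
theorem code_RU23 : E.IsCode ((RU23 : G) : Equiv.Perm (Fin N)) (cRU23) :=
  congr_of_chk (code_RU21) (by decide +kernel)
set_option maxRecDepth 100000 in
theorem codei_RU23 : E.IsCode ((RU23⁻¹ : G) : Equiv.Perm (Fin N)) (ciRU23) :=
  inv_of_chk code_RU23 (by decide +kernel)
/-- A strong generator. -/
noncomputable def RU24 : G := (RU20)⁻¹ * ((RU22))
/-- The code of a strong generator. -/
noncomputable def cRU24 : ℕ → ℕ := pgetS 11 2047 TRU24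
/-- The inverse code of a strong generator. -/
noncomputable def ciRU24 : ℕ → ℕ := pgetS 11 2047 TIU24
set_option maxRecDepth 100000 in
theorem code_RU24 : E.IsCode ((RU24 : G) : Equiv.Perm (Fin N)) (cRU24) :=
  congr_of_chk (coe_code_mul codei_RU20 (code_RU22)) (by decide +kernel)
set_option maxRecDepth 100000 in
theorem codei_RU24 : E.IsCode ((RU24⁻¹ : G) : Equiv.Perm (Fin N)) (ciRU24) :=
  inv_of_chk code_RU24 (by decide +kernel)
/-- A strong generator. -/
noncomputable def RU25 : G := (RU24) * ((RU23))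
/-- The code of a strong generator. -/
noncomputable def cRU25 : ℕ → ℕ := pgetS 11 2047 TRU25
/-- The inverse code of a strong generator. -/
noncomputable def ciRU25 : ℕ → ℕ := pgetS 11 2047 TIU25
set_option maxRecDepth 100000 in
theorem code_RU25 : E.IsCode ((RU25 : G) : Equiv.Perm (Fin N)) (cRU25) :=
  congr_of_chk (coe_code_mul code_RU24 (code_RU23)) (by decide +kernel)
set_option maxRecDepth 100000 in
theorem codei_RU25 : E.IsCode ((RU25⁻¹ : G) : Equiv.Perm (Fin N)) (ciRU25) :=
  inv_of_chk code_RU25 (by decide +kernel)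

end Cfsg.Agent.Lib.KnownSimple.SuzP
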